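import Groth.Agent.Lib.GrpSchField.ReducedProd
import Mathlib

/-!
# Geometric reducedness along separable and purely inseparable extensions
-/

universe u

open scoped TensorProduct

namespace GrothLib.GeomRed2

variable {k k' A : Type u} [Field k] [Field k'] [Algebra k k'] [CommRing A] [Algebra k A]

/-- A separable algebraic extension is geometrically reduced. -/
theorem isGeometricallyReduced_of_isSeparable [Algebra.IsSeparable k k'] :
    Algebra.IsGeometricallyReduced k k' := by
  rw [Algebra.isGeometricallyReduced_field_iff]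
  refine IsReduced.tensorProduct_of_flat_of_forall_fg fun B hB => ?_
  haveI : Algebra.IsAlgebraic k B :=
    Algebra.IsAlgebraic.of_injective B.val Subtype.val_injective
  haveI : Algebra.FiniteType k B := ⟨(Subalgebra.fg_top B).2 hB⟩
  let _ : Field B := Subalgebra.isField_of_algebraic B |>.toField
  haveI : Algebra.IsSeparable k B := Algebra.IsSeparable.of_algHom k k' B.val
  haveI : Algebra.FormallyUnramified k B := Algebra.FormallyUnramified.of_isSeparable k B
  exact Algebra.FormallyUnramified.isReduced_of_field (AlgebraicClosure k)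
    (AlgebraicClosure k ⊗[k] B)

/-- A tensor product over `k` of a geometrically reduced algebra with a field is reduced. -/
theorem isReduced_tensor_field [Algebra.IsGeometricallyReduced k A] (K : Type u) [Field K]
    [Algebra k K] : IsReduced (K ⊗[k] A) :=
  GrothLib.GrpSchField.isReduced_tensorProduct

variable [Algebra k' A] [IsScalarTower k k' A]

/-- Reducedness descends from `Ω ⊗_k A` to `Ω ⊗_{k'} A` when `k'/k` is separable algebraic. -/
theorem isReduced_tensor_of_separable [Algebra.IsSeparable k k'] (Ω : Type u) [CommRing Ω]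
    [Algebra k Ω] [Algebra k' Ω] [IsScalarTower k k' Ω] [IsReduced (Ω ⊗[k] A)] :
    IsReduced (Ω ⊗[k'] A) := by
  let π : Ω ⊗[k] A →ₐ[k'] Ω ⊗[k'] A := Algebra.TensorProduct.mapOfCompatibleSMul k' k k' Ω A
  have hπ : Function.Surjective π :=
    Algebra.TensorProduct.mapOfCompatibleSMul_surjective k' k k' Ω A
  have key : ∀ z : Ω ⊗[k] A, π z = 0 → ∃ E, π E = 1 ∧ E * z = 0 := by
    intro z hz
    have hz' : z ∈ (TensorProduct.mapOfCompatibleSMul k' k k' Ω A).ker := hz
    rw [TensorProduct.AlgebraTensorModule.ker_mapOfCompatibleSMul] at hz'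
    clear hz
    induction hz' using Submodule.span_induction with
    | zero => exact ⟨1, map_one _, mul_zero _⟩
    | add a b _ _ ha hb =>
      obtain ⟨E, hE, hEa⟩ := ha
      obtain ⟨F, hF, hFb⟩ := hb
      exact ⟨E * F, by rw [map_mul, hE, hF, one_mul],
        by linear_combination F * hEa + E * hFb⟩
    | smul r a _ ha =>
      obtain ⟨E, hE, hEa⟩ := ha
      exact ⟨E, hE, by rw [mul_smul_comm, hEa, smul_zero]⟩
    | mem w hw =>
      obtain ⟨c, m, n, rfl⟩ := hw
      let L : IntermediateField k k' := IntermediateField.adjoin k {c}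
      haveI : FiniteDimensional k L :=
        IntermediateField.adjoin.finiteDimensional (Algebra.IsIntegral.isIntegral c)
      haveI : Algebra.IsSeparable k L := Algebra.IsSeparable.of_algHom k k' L.val
      haveI : Algebra.FormallyUnramified k L := Algebra.FormallyUnramified.of_isSeparable k L
      let φ : L ⊗[k] L →ₐ[k] Ω ⊗[k] A :=
        Algebra.TensorProduct.map ((IsScalarTower.toAlgHom k k' Ω).comp L.val)
          ((IsScalarTower.toAlgHom k k' A).comp L.val)
      have hφ : ∀ a b : L, π (φ (a ⊗ₜ b)) = algebraMap k' (Ω ⊗[k'] A) ((a : k') * b) := fun a b => by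
        show π (algebraMap k' Ω (a : k') ⊗ₜ algebraMap k' A (b : k')) = _
        rw [Algebra.TensorProduct.mapOfCompatibleSMul_tmul, map_mul,
          Algebra.TensorProduct.algebraMap_apply, Algebra.TensorProduct.algebraMap_apply',
          Algebra.TensorProduct.tmul_mul_tmul, one_mul, mul_one]
      have hφ' : ∀ t : L ⊗[k] L,
          π (φ t) = algebraMap k' (Ω ⊗[k'] A) ((Algebra.TensorProduct.lmul' k t : L) : k') := by
        intro t
        induction t using TensorProduct.induction_on with
        | zero => simp
        | tmul a b => rw [hφ, Algebra.TensorProduct.lmul'_apply_tmul]; rfl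
        | add a b ha hb => simp only [map_add, IntermediateField.coe_add, ha, hb]
      refine ⟨φ (Algebra.FormallyUnramified.elem k L), ?_, ?_⟩
      · rw [hφ', Algebra.FormallyUnramified.lmul_elem, IntermediateField.coe_one, map_one]
      · let cL : L := ⟨c, IntermediateField.mem_adjoin_simple_self k c⟩
        have h0 := congr_arg φ (Algebra.FormallyUnramified.one_tmul_sub_tmul_one_mul_elem
          (R := k) cL)
        rw [map_mul, map_sub, map_zero] at h0
        have h1 : φ (cL ⊗ₜ 1) = algebraMap k' Ω c ⊗ₜ[k] (1 : A) := by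
          show algebraMap k' Ω c ⊗ₜ[k] algebraMap k' A ((1 : L) : k') = _
          rw [IntermediateField.coe_one, map_one]
        have h2 : φ (1 ⊗ₜ cL) = (1 : Ω) ⊗ₜ[k] algebraMap k' A c := by
          show algebraMap k' Ω ((1 : L) : k') ⊗ₜ[k] algebraMap k' A c = _
          rw [IntermediateField.coe_one, map_one]
        rw [h1, h2] at h0
        have h3 : (c • m) ⊗ₜ[k] n - m ⊗ₜ[k] (c • n) =
            -(((1 : Ω) ⊗ₜ[k] algebraMap k' A c - algebraMap k' Ω c ⊗ₜ[k] (1 : A)) * (m ⊗ₜ n)) := by
          rw [sub_mul, Algebra.TensorProduct.tmul_mul_tmul, Algebra.TensorProduct.tmul_mul_tmul,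
            one_mul, one_mul, Algebra.smul_def, Algebra.smul_def, neg_sub]
        rw [h3]
        linear_combination (-(m ⊗ₜ[k] n)) * h0
  refine ⟨fun x ⟨j, hj⟩ => ?_⟩
  obtain ⟨y, rfl⟩ := hπ x
  rw [← map_pow] at hj
  obtain ⟨E, hE, hEy⟩ := key _ hj
  have h0 : E * y = 0 := IsNilpotent.eq_zero ⟨j + 1, by
    rw [mul_pow, pow_succ y j, pow_succ E j]
    linear_combination (E ^ j * y) * hEy⟩
  calc π y = π (E * y) := by rw [map_mul, hE, one_mul]
    _ = 0 := by rw [h0, map_zero]

/-- Geometric reducedness is insensitive to a separable algebraic extension of the base field. -/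
theorem isReduced_tensor_iff_of_separable [Algebra.IsSeparable k k'] :
    (∀ (K : Type u) [Field K] [Algebra k K], IsReduced (K ⊗[k] A)) ↔
      ∀ (K : Type u) [Field K] [Algebra k' K], IsReduced (K ⊗[k'] A) := by
  constructor
  · intro h K _ _
    let _ : Algebra k K := ((algebraMap k' K).comp (algebraMap k k')).toAlgebra
    haveI : IsScalarTower k k' K := IsScalarTower.of_algebraMap_eq fun _ => rfl
    haveI : IsReduced (K ⊗[k] A) := h K
    exact isReduced_tensor_of_separable (k := k) K
  · intro h K _ _
    haveI : Algebra.IsGeometricallyReduced k' A :=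
      (Algebra.isGeometricallyReduced_field_iff k' A).mpr (h _)
    haveI : Algebra.IsGeometricallyReduced k k' := isGeometricallyReduced_of_isSeparable
    haveI : IsReduced (K ⊗[k] k') := GrothLib.GrpSchField.isReduced_tensorProduct
    haveI : IsReduced (k' ⊗[k] K) := isReduced_of_injective (Algebra.TensorProduct.comm k k' K)
      (Algebra.TensorProduct.comm k k' K).injective
    let _ : Algebra k' (k' ⊗[k] K) := Algebra.TensorProduct.leftAlgebra
    haveI : IsReduced ((k' ⊗[k] K) ⊗[k'] A) := GrothLib.GrpSchField.isReduced_tensorProduct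
    let e : (k' ⊗[k] K) ⊗[k'] A ≃+* K ⊗[k] A :=
      ((Algebra.TensorProduct.comm k' (k' ⊗[k] K) A).toRingEquiv.trans
        (Algebra.TensorProduct.cancelBaseChange k k' k' A K).toRingEquiv).trans
        (Algebra.TensorProduct.comm k A K).toRingEquiv
    exact isReduced_of_injective e.symm e.symm.injective

omit [Algebra k' A] [IsScalarTower k k' A] in
/-- Reducedness propagates from a perfect intermediate field to any larger field. -/
theorem isReduced_tensor_of_perfect {P : Type u} [Field P] [Algebra k P] [PerfectField P]
    [IsReduced (P ⊗[k] A)] (Ω : Type u) [Field Ω] [Algebra k Ω] [Algebra P Ω]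
    [IsScalarTower k P Ω] : IsReduced (Ω ⊗[k] A) := by
  haveI : Algebra.IsGeometricallyReduced P (P ⊗[k] A) :=
    GrothLib.GrpSchField.isGeometricallyReduced_of_isReduced
  haveI : IsReduced (Ω ⊗[P] (P ⊗[k] A)) := GrothLib.GrpSchField.isReduced_tensorProduct
  let e := Algebra.TensorProduct.cancelBaseChange k P P Ω A
  exact isReduced_of_injective e.symm e.symm.injective

omit [Algebra k' A] [IsScalarTower k k' A] in
/-- Testing geometric reducedness on finite purely inseparable extensions suffices. -/
theorem isGeometricallyReduced_of_forall_purelyInseparable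
    (h : ∀ (k' : Type u) [Field k'] [Algebra k k'] [Module.Finite k k'] [IsPurelyInseparable k k'],
      IsReduced (k' ⊗[k] A)) : Algebra.IsGeometricallyReduced k A := by
  classical
  rw [Algebra.isGeometricallyReduced_field_iff]
  let Ω := AlgebraicClosure k
  let P : IntermediateField k Ω := perfectClosure k Ω
  haveI : IsPurelyInseparable k P := perfectClosure.isPurelyInseparable k Ω
  haveI : IsReduced (P ⊗[k] A) := by
    refine ⟨fun x hx => ?_⟩
    obtain ⟨T, hT⟩ := TensorProduct.exists_finset x
    let L : IntermediateField k P := IntermediateField.adjoin k ((T.image Prod.fst : Finset P) : Set P)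
    haveI : FiniteDimensional k L :=
      IntermediateField.finiteDimensional_adjoin fun t _ => Algebra.IsIntegral.isIntegral t
    haveI : IsPurelyInseparable k L := IsPurelyInseparable.tower_bot k L P
    haveI : IsReduced (L ⊗[k] A) := h L
    let f := Algebra.TensorProduct.map L.val (AlgHom.id k A)
    have hf : Function.Injective f :=
      Module.Flat.rTensor_preserves_injective_linearMap (M := A) L.val.toLinearMap
        Subtype.val_injective
    obtain ⟨x₀, rfl⟩ : x ∈ f.range := by
      rw [hT]
      refine sum_mem fun i hi => ⟨(⟨i.1, IntermediateField.subset_adjoin k _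
        (Finset.mem_image_of_mem _ hi)⟩ : L) ⊗ₜ i.2, rfl⟩
    have h0 : IsNilpotent x₀ := (IsNilpotent.map_iff hf).mp hx
    show f x₀ = 0
    rw [h0.eq_zero, map_zero]
  exact isReduced_tensor_of_perfect (P := P) Ω

end GrothLib.GeomRed2
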